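import Mathlib
import Groth.Prelude.Def_Wider

universe u

open CategoryTheory Limits DirectSum

namespace Groth.Agent.TorsResLib

variable {R : Type u} [CommRing R] (I : Ideal R)

/-- A bundled power torsion module. -/
structure Stage where
  carrier : ModuleCat.{u} R
  tors : ∀ m : carrier, ∃ n : ℕ, ∀ a ∈ I ^ n, a • m = 0

variable {I}

namespace Stage

noncomputable def deg (S : Stage I) (m : S.carrier) : ℕ := (S.tors m).choose

abbrev cover (S : Stage I) : Type u := ⨁ m : S.carrier, R ⧸ I ^ S.deg m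

noncomputable def gen (S : Stage I) (m : S.carrier) : (R ⧸ I ^ S.deg m) →ₗ[R] S.carrier :=
  (I ^ S.deg m).liftQ (LinearMap.toSpanSingleton R S.carrier m) fun a ha => (S.tors m).choose_spec a ha

open Classical in
noncomputable def proj (S : Stage I) : S.cover →ₗ[R] S.carrier :=
  DirectSum.toModule R _ _ S.gen

theorem proj_surjective (S : Stage I) : Function.Surjective S.proj := by
  classical
  intro m
  refine ⟨DirectSum.lof R _ _ m (Submodule.Quotient.mk 1), ?_⟩
  rw [proj, DirectSum.toModule_lof]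
  exact one_smul R m

theorem cover_tors (S : Stage I) (x : S.cover) : ∃ n : ℕ, ∀ a ∈ I ^ n, a • x = 0 := by
  classical
  induction x using DirectSum.induction_on with
  | zero => exact ⟨0, fun a _ => smul_zero a⟩
  | of i y =>
    refine ⟨S.deg i, fun a ha => ?_⟩
    obtain ⟨y, rfl⟩ := Submodule.mkQ_surjective _ y
    show a • DirectSum.lof R _ _ i _ = 0
    rw [← map_smul, ← map_smul, show (I ^ S.deg i).mkQ (a • y) = 0 from
      (Submodule.Quotient.mk_eq_zero _).2 (Ideal.mul_mem_right y _ ha), map_zero]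
  | add x y hx hy =>
    obtain ⟨n, hn⟩ := hx
    obtain ⟨k, hk⟩ := hy
    refine ⟨max n k, fun a ha => ?_⟩
    rw [smul_add, hn a (Ideal.pow_le_pow_right (le_max_left n k) ha),
      hk a (Ideal.pow_le_pow_right (le_max_right n k) ha), add_zero]

noncomputable def next (S : Stage I) : Stage I where
  carrier := ModuleCat.of R (LinearMap.ker S.proj)
  tors m := (S.cover_tors m.1).imp fun n hn a ha => Subtype.ext (hn a ha)

noncomputable def iter (S : Stage I) : ℕ → Stage I
  | 0 => S
  | n + 1 => (iter S n).next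

noncomputable def dd (T : Stage I) : T.next.cover →ₗ[R] T.cover where
  toFun x := (T.next.proj x : LinearMap.ker T.proj).1
  map_add' x y := by rw [map_add]; rfl
  map_smul' a x := by rw [map_smul]; rfl

theorem range_dd (T : Stage I) : LinearMap.range T.dd = LinearMap.ker T.proj := by
  ext x
  refine ⟨fun ⟨y, hy⟩ => hy ▸ (T.next.proj y : LinearMap.ker T.proj).2, fun hx => ?_⟩
  obtain ⟨y, hy⟩ := T.next.proj_surjective ⟨x, hx⟩
  exact ⟨y, congrArg Subtype.val hy⟩

theorem ker_dd (T : Stage I) : LinearMap.ker T.dd = LinearMap.ker T.next.proj := by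
  ext x
  exact ⟨fun hx => Subtype.ext hx, fun hx => congrArg Subtype.val hx⟩

noncomputable def d (S : Stage I) (n : ℕ) :
    ModuleCat.of R (S.iter (n + 1)).cover ⟶ ModuleCat.of R (S.iter n).cover :=
  ModuleCat.ofHom (S.iter n).dd

theorem range_d (S : Stage I) (n : ℕ) :
    LinearMap.range (S.d n).hom = LinearMap.ker (S.iter n).proj := (S.iter n).range_dd

theorem ker_d (S : Stage I) (n : ℕ) :
    LinearMap.ker (S.d n).hom = LinearMap.ker (S.iter (n + 1)).proj := (S.iter n).ker_dd

theorem d_comp_d (S : Stage I) (n : ℕ) : S.d (n + 1) ≫ S.d n = 0 := by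
  ext1
  rw [ModuleCat.hom_comp, ModuleCat.hom_zero, ← LinearMap.range_le_ker_iff, range_d, ker_d]

noncomputable def complex (S : Stage I) : ChainComplex (ModuleCat.{u} R) ℕ :=
  ChainComplex.of (fun n => ModuleCat.of R (S.iter n).cover) S.d S.d_comp_d

theorem complex_d (S : Stage I) (n : ℕ) : S.complex.d (n + 1) n = S.d n :=
  ChainComplex.of_d (fun n => ModuleCat.of R (S.iter n).cover) S.d n

theorem d_comp_proj (S : Stage I) : S.complex.d 1 0 ≫ ModuleCat.ofHom S.proj = 0 := by
  rw [show S.complex.d 1 0 = S.d 0 from S.complex_d 0]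
  ext1
  exact LinearMap.range_le_ker_iff.1 (S.range_d 0).le

noncomputable def π (S : Stage I) :
    S.complex ⟶ (ChainComplex.single₀ (ModuleCat.{u} R)).obj S.carrier :=
  (ChainComplex.toSingle₀Equiv _ _).symm ⟨ModuleCat.ofHom S.proj, S.d_comp_proj⟩

theorem quasiIso_π (S : Stage I) : QuasiIso S.π := ⟨fun n => by
  cases n
  · rw [ChainComplex.quasiIsoAt₀_iff, ShortComplex.quasiIso_iff_of_zeros']
    · refine (ShortComplex.exact_and_epi_g_iff_of_iso (S₂ := ShortComplex.mk (S.d 0)
        (ModuleCat.ofHom S.proj) ?_) ?_).2 ⟨?_, ?_⟩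
      · ext1
        exact LinearMap.range_le_ker_iff.1 (S.range_d 0).le
      · exact ShortComplex.isoMk (Iso.refl _) (Iso.refl _) (Iso.refl _)
          ((Category.id_comp _).trans ((S.complex_d 0).symm.trans (Category.comp_id _).symm))
          (by simp [π] <;> rfl)
      · exact (ShortComplex.moduleCat_exact_iff_range_eq_ker _).2 (S.range_d 0)
      · exact (ModuleCat.epi_iff_surjective _).2 S.proj_surjective
    all_goals rfl
  · rename_i n
    rw [quasiIsoAt_iff_exactAt']
    · rw [HomologicalComplex.exactAt_iff' _ (n + 1 + 1) (n + 1) n (by simp) (by simp)]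
      refine (ShortComplex.moduleCat_exact_iff_range_eq_ker _).2 ?_
      show LinearMap.range (S.complex.d (n + 1 + 1) (n + 1)).hom = LinearMap.ker (S.complex.d (n + 1) n).hom
      rw [S.complex_d, S.complex_d]
      exact (S.range_d (n + 1)).trans (S.ker_d n).symm
    · apply ChainComplex.exactAt_succ_single_obj⟩

end Stage

theorem exists_resolution (I : Ideal R) (M : Type u) [AddCommGroup M] [Module R M]
    (hM : LocCoh.IsPowerTorsion I M) :
    ∃ (K : ChainComplex (ModuleCat.{u} R) ℕ) (π : K ⟶ (ChainComplex.single₀ (ModuleCat.{u} R)).obj (ModuleCat.of R M)),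
      QuasiIso π ∧ ∀ i : ℕ, ∃ (ι : Type u) (n : ι → ℕ),
        Nonempty (K.X i ≅ ModuleCat.of R (DirectSum ι fun j => R ⧸ I ^ n j)) :=
  let S : Stage I := ⟨ModuleCat.of R M, hM⟩
  ⟨S.complex, S.π, S.quasiIso_π, fun i => ⟨(S.iter i).carrier, (S.iter i).deg, ⟨Iso.refl _⟩⟩⟩

end Groth.Agent.TorsResLib
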